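import Groth.Agent.UniruledCurveLib.Basic

/-!
# A rational curve through a point swept by the closure of a family of rational curves over a curve
-/

set_option autoImplicit false
set_option backward.isDefEq.respectTransparency false
set_option linter.style.haveILetI false
set_option maxHeartbeats 1000000

universe u

open CategoryTheory CategoryTheory.Limits AlgebraicGeometry TopologicalSpace
open Groth.Agent.TwistShriek Groth.Agent.TwistShriek.PointBlow Groth.Agent.SurfPtBlow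

noncomputable section

namespace Groth.Agent.UniruledCurveLib

variable {k : Type u} [Field k] [IsAlgClosed k]

local notation "ℙ¹" => CohB1.ProjSpace 1 k
local notation "pp" => CohB1.ProjSpace.toSpec 1 k

/-- The range of the section of a product given by a point of the second factor. -/
theorem range_lift_point {A B : Scheme.{u}} (f : A ⟶ Spec (CommRingCat.of k)) (g : B ⟶ Spec (CommRingCat.of k))
    (c : Spec (CommRingCat.of k) ⟶ B) (hc : c ≫ g = 𝟙 _) :
    Set.range (pullback.lift (𝟙 A) (f ≫ c) (by rw [Category.assoc, hc, Category.comp_id, Category.id_comp]) :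
      A ⟶ pullback f g).base = (pullback.snd f g).base ⁻¹' Set.range c.base := by
  set s := (pullback.lift (𝟙 A) (f ≫ c) (by rw [Category.assoc, hc, Category.comp_id, Category.id_comp]) :
      A ⟶ pullback f g) with hs
  have hfst : s ≫ pullback.fst f g = 𝟙 A := pullback.lift_fst _ _ _
  have hsnd : s ≫ pullback.snd f g = f ≫ c := pullback.lift_snd _ _ _
  have hsq : IsPullback s f (pullback.snd f g) c := by
    refine IsPullback.of_right ?_ hsnd (IsPullback.of_hasPullback f g)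
    rw [hfst, hc]
    exact IsPullback.of_horiz_isIso ⟨by simp⟩
  refine Set.Subset.antisymm ?_ ?_
  · rintro _ ⟨b, rfl⟩
    exact ⟨f b, by rw [← Scheme.Hom.comp_apply, ← Scheme.Hom.comp_apply, hsnd]⟩
  · rintro x ⟨t, ht⟩
    obtain ⟨u, hu, -⟩ := Scheme.Pullback.exists_preimage_pullback (f := pullback.snd f g) (g := c) x t ht.symm
    refine ⟨hsq.isoPullback.inv u, ?_⟩
    rw [← Scheme.Hom.comp_apply, hsq.isoPullback_inv_fst, hu]

/-- Two morphisms to a separated scheme which agree over a dense open of a curve section take a common value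
over every point of the curve. -/
theorem exists_point_of_agree {Y S C X : Scheme.{u}} (g : Y ⟶ S) [IsProper g] (hg : Function.Surjective g.base)
    (s : C ⟶ S) (pX : X ⟶ Spec (CommRingCat.of k)) [IsSeparated pX] (h : Y ⟶ X) (η : C ⟶ X)
    (hover : pullback.fst g s ≫ h ≫ pX = pullback.snd g s ≫ η ≫ pX) (O : C.Opens) (hO : Dense (O : Set C))
    (hag : ((pullback.snd g s) ⁻¹ᵁ O).ι ≫ pullback.fst g s ≫ h = ((pullback.snd g s) ⁻¹ᵁ O).ι ≫ pullback.snd g s ≫ η)
    (c : C) : ∃ y : Y, g y = s c ∧ h y = η c := by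
  let a := pullback.fst g s ≫ h
  let b := pullback.snd g s ≫ η
  let Δ : pullback g s ⟶ pullback pX pX := pullback.lift a b (by simp only [a, b, Category.assoc]; exact hover)
  let E := pullback.fst Δ (pullback.diagonal pX)
  haveI : IsClosedImmersion E := inferInstance
  have hsub : ((pullback.snd g s ⁻¹ᵁ O : (pullback g s).Opens) : Set ↑(pullback g s)) ⊆ Set.range E.base := by
    intro t ht
    let l : (pullback.snd g s ⁻¹ᵁ O).toScheme ⟶ pullback Δ (pullback.diagonal pX) :=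
      pullback.lift (pullback.snd g s ⁻¹ᵁ O).ι ((pullback.snd g s ⁻¹ᵁ O).ι ≫ a) (by
        refine pullback.hom_ext ?_ ?_
        · simp only [Category.assoc, Δ, pullback.lift_fst, pullback.diagonal_fst, Category.comp_id]
        · simp only [Category.assoc, Δ, pullback.lift_snd, pullback.diagonal_snd, Category.comp_id]
          exact hag.symm)
    refine ⟨l ⟨t, ht⟩, ?_⟩
    rw [← Scheme.Hom.comp_apply, pullback.lift_fst]
    rfl
  have hcl : IsClosed ((pullback.snd g s).base '' Set.range E.base) :=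
    (pullback.snd g s).isClosedMap _ E.isClosedEmbedding.isClosed_range
  have hO' : (O : Set C) ⊆ (pullback.snd g s).base '' Set.range E.base := by
    intro o ho
    obtain ⟨y, hy⟩ := hg (s o)
    obtain ⟨t, -, ht⟩ := Scheme.Pullback.exists_preimage_pullback (f := g) (g := s) y o hy
    exact ⟨t, hsub (show pullback.snd g s t ∈ O from ht.symm ▸ ho), ht⟩
  obtain ⟨t, ⟨ε, rfl⟩, htc⟩ := closure_minimal hO' hcl (hO c)
  refine ⟨pullback.fst g s (E ε), ?_, ?_⟩
  · rw [← Scheme.Hom.comp_apply, pullback.condition, Scheme.Hom.comp_apply, htc]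
  · have e1 : E ≫ a = pullback.snd Δ (pullback.diagonal pX) := by
      have := congrArg (fun m => m ≫ pullback.fst pX pX) (pullback.condition (f := Δ) (g := pullback.diagonal pX))
      simpa [Δ, E] using this
    have e2 : E ≫ b = pullback.snd Δ (pullback.diagonal pX) := by
      have := congrArg (fun m => m ≫ pullback.snd pX pX) (pullback.condition (f := Δ) (g := pullback.diagonal pX))
      simpa [Δ, E] using this
    have e3 := congrArg (fun m : pullback Δ (pullback.diagonal pX) ⟶ X => m.base ε) (e1.trans e2.symm)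
    simp only [a, b, Scheme.Hom.comp_apply] at e3
    exact e3.trans (congrArg η.base htc)

set_option maxHeartbeats 8000000 in
/-- A family of rational curves parametrised by a curve has a rational curve through every point of the closure
of a section, provided the family is nowhere constant over some open of the parameters. -/
theorem exists_line_of_section {X M : Scheme.{u}} (pX : X ⟶ Spec (CommRingCat.of k)) [IsProper pX]
    (m : M ⟶ Spec (CommRingCat.of k)) [IsSeparated m] [LocallyOfFiniteType m]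
    (D : (pullback (CohB1.ProjSpace.toSpec 1 k) m).Opens) (e : D.toScheme ⟶ X)
    (he : e ≫ pX = D.ι ≫ pullback.fst (CohB1.ProjSpace.toSpec 1 k) m ≫ CohB1.ProjSpace.toSpec 1 k)
    (OM : M.Opens)
    (hOM : ∀ mm : M, IsClosed ({mm} : Set M) → mm ∈ OM → ∃ tt tt' : Spec (CommRingCat.of k) ⟶ D.toScheme,
      tt ≫ D.ι ≫ pullback.snd (CohB1.ProjSpace.toSpec 1 k) m ≫ m = 𝟙 _ ∧
      tt' ≫ D.ι ≫ pullback.snd (CohB1.ProjSpace.toSpec 1 k) m ≫ m = 𝟙 _ ∧
      (tt ≫ D.ι ≫ pullback.snd (CohB1.ProjSpace.toSpec 1 k) m) (IsLocalRing.closedPoint k) = mm ∧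
      (tt' ≫ D.ι ≫ pullback.snd (CohB1.ProjSpace.toSpec 1 k) m) (IsLocalRing.closedPoint k) = mm ∧
      tt ≫ e ≠ tt' ≫ e)
    {C : Scheme.{u}} (q : C ⟶ Spec (CommRingCat.of k)) [IsIntegral C] [IsProper q] [Smooth q]
    (hC : topologicalKrullDim C = 1) (O : C.Opens) (α : O.toScheme ⟶ D.toScheme)
    (hα : α ≫ D.ι ≫ pullback.fst (CohB1.ProjSpace.toSpec 1 k) m ≫ CohB1.ProjSpace.toSpec 1 k = O.ι ≫ q)
    (o : O.toScheme) (hαM : (α ≫ D.ι ≫ pullback.snd (CohB1.ProjSpace.toSpec 1 k) m) o ∈ OM)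
    (η : C ⟶ X) (hη : η ≫ pX = q) (hOη : O.ι ≫ η = α ≫ e)
    (x : X) (hx : IsClosed ({x} : Set X)) (hxη : x ∈ Set.range η.base) :
    ∃ c : ℙ¹ ⟶ X, c ≫ pX = CohB1.ProjSpace.toSpec 1 k ∧ (¬ ∃ y : X, Set.range c.base ⊆ {y}) ∧
      x ∈ Set.range c.base := by
  haveI : Subsingleton ↥(Spec (CommRingCat.of k)) := inferInstanceAs (Subsingleton (PrimeSpectrum k))
  set pt : Spec (CommRingCat.of k) := IsLocalRing.closedPoint k with hpt
  haveI : Smooth pp := ProjSmoothLib.smooth_toSpec 1 k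
  haveI : IsProper pp := inferInstance
  haveI : IsNoetherian ℙ¹ :=
    { toIsLocallyNoetherian := LocallyOfFiniteType.isLocallyNoetherian pp
      toCompactSpace := QuasiCompact.compactSpace_of_compactSpace pp }
  have hPd : topologicalKrullDim ℙ¹ = 1 := by exact_mod_cast S10829.result k 1
  by_contra hline
  -- the surface
  let S := pullback pp q
  haveI : IsIntegral S := S1582.result k ℙ¹ C pp q
  let sS : S ⟶ Spec (CommRingCat.of k) := pullback.fst pp q ≫ pp
  haveI : Smooth sS := inferInstance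
  haveI : IsProper sS := inferInstance
  haveI : IsNoetherian S :=
    { toIsLocallyNoetherian := LocallyOfFiniteType.isLocallyNoetherian sS
      toCompactSpace := QuasiCompact.compactSpace_of_compactSpace sS }
  have hdim : topologicalKrullDim S ≤ 2 := by
    rw [ProdDim.topologicalKrullDim_pullback pp q, hPd, hC]
    rfl
  let β : O.toScheme ⟶ M := α ≫ D.ι ≫ pullback.snd pp m
  have hβ : β ≫ m = O.ι ≫ q := by
    simp only [β, Category.assoc, ← pullback.condition, hα]
  let UO : S.Opens := pullback.snd pp q ⁻¹ᵁ O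
  let Φ : UO.toScheme ⟶ pullback pp m := pullback.lift (UO.ι ≫ pullback.fst pp q) ((pullback.snd pp q ∣_ O) ≫ β) (by
    rw [Category.assoc, Category.assoc, hβ, morphismRestrict_ι_assoc, pullback.condition])
  let U : S.Opens := UO.ι ''ᵁ (Φ ⁻¹ᵁ D)
  let φ : U.toScheme ⟶ X := (UO.ι.isoImage (Φ ⁻¹ᵁ D)).inv ≫ (Φ ∣_ D) ≫ e
  have hφ : φ ≫ pX = U.ι ≫ sS := by
    have h1 : (Φ ∣_ D) ≫ e ≫ pX = (Φ ⁻¹ᵁ D).ι ≫ UO.ι ≫ sS := by
      rw [he, morphismRestrict_ι_assoc]
      simp only [Φ, pullback.lift_fst_assoc, Category.assoc, sS]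
    simp only [φ, Category.assoc]
    rw [h1]
    exact UO.ι.isoImage_inv_ι_assoc _ _
  have hmapU : ∀ {T : Scheme.{u}} (a : T ⟶ S) (b : T ⟶ D.toScheme) (cO : T ⟶ O.toScheme),
      a ≫ pullback.snd pp q = cO ≫ O.ι → a ≫ pullback.fst pp q = b ≫ D.ι ≫ pullback.fst pp m →
      cO ≫ β = b ≫ D.ι ≫ pullback.snd pp m → ∃ a' : T ⟶ U.toScheme, a' ≫ U.ι = a ∧ a' ≫ φ = b ≫ e := by
    intro T a b cO h1 h2 h3
    let a₀ := IsOpenImmersion.lift UO.ι a (by
      rintro _ ⟨t, rfl⟩
      rw [Scheme.Opens.range_ι]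
      show pullback.snd pp q (a t) ∈ O
      rw [← Scheme.Hom.comp_apply, h1]
      exact (cO t).2)
    have ha₀ : a₀ ≫ UO.ι = a := IsOpenImmersion.lift_fac _ _ _
    have ha₀O : a₀ ≫ (pullback.snd pp q ∣_ O) = cO := by
      rw [← cancel_mono O.ι, Category.assoc, morphismRestrict_ι, reassoc_of% ha₀, h1]
    have hΦ : a₀ ≫ Φ = b ≫ D.ι := by
      refine pullback.hom_ext ?_ ?_
      · rw [Category.assoc, pullback.lift_fst, reassoc_of% ha₀, h2, Category.assoc]
      · rw [Category.assoc, pullback.lift_snd, reassoc_of% ha₀O, h3, Category.assoc]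
    let a₁ := IsOpenImmersion.lift (Φ ⁻¹ᵁ D).ι a₀ (by
      rintro _ ⟨t, rfl⟩
      rw [Scheme.Opens.range_ι]
      show Φ (a₀ t) ∈ D
      rw [← Scheme.Hom.comp_apply, hΦ]
      exact (b t).2)
    have ha₁ : a₁ ≫ (Φ ⁻¹ᵁ D).ι = a₀ := IsOpenImmersion.lift_fac _ _ _
    have ha₁D : a₁ ≫ (Φ ∣_ D) = b := by
      rw [← cancel_mono D.ι, Category.assoc, morphismRestrict_ι, reassoc_of% ha₁, hΦ]
    refine ⟨a₁ ≫ (UO.ι.isoImage (Φ ⁻¹ᵁ D)).hom, ?_, ?_⟩
    · rw [Category.assoc, UO.ι.isoImage_hom_ι, reassoc_of% ha₁, ha₀]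
    · simp only [φ, Category.assoc, Iso.hom_inv_id_assoc]
      rw [reassoc_of% ha₁D]
  -- the section
  have hOne : (O : Set C).Nonempty := ⟨_, o.2⟩
  obtain ⟨σ, hσ, hOσ⟩ := exists_extend_curve q hC.le pp O hOne (α ≫ D.ι ≫ pullback.fst pp m) (by
    rw [Category.assoc, Category.assoc, hα])
  let sσ : C ⟶ S := pullback.lift σ (𝟙 C) (by rw [hσ, Category.id_comp])
  obtain ⟨κ, hκ, hκφ⟩ := hmapU (O.ι ≫ sσ) α (𝟙 _)
    (by rw [Category.assoc, pullback.lift_snd, Category.comp_id, Category.id_comp])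
    (by rw [Category.assoc, pullback.lift_fst, hOσ])
    (by rw [Category.id_comp])
  have hU : (U : Set S).Nonempty := ⟨_, (κ o).2⟩
  have hηU : genericPoint S ∈ U := (genericPoint_specializes hU.some).mem_open U.2 hU.some_mem
  -- resolve
  let zK : Spec S.functionField ⟶ X := U.fromSpecStalkOfMem (genericPoint S) hηU ≫ φ
  obtain ⟨Y, hint, g, hg, h, hseq, hover, hgen⟩ := exists_ptSeq_extend (regular_of_smooth' sS) hdim sS pX zK (by
    rw [Category.assoc, hφ, Scheme.Opens.fromSpecStalkOfMem_ι_assoc])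
  haveI := hint
  haveI := hseq.isNoetherian.2
  have hgen' : genericPoint Y ∈ g ⁻¹ᵁ U := show g (genericPoint Y) ∈ U from hg.symm ▸ hηU
  have hagree : (g ⁻¹ᵁ U).ι ≫ h = (g ∣_ U) ≫ φ := by
    let τ := (g ⁻¹ᵁ U).fromSpecStalkOfMem (genericPoint Y) hgen'
    haveI : IsDominant τ := ⟨fun z => by
      refine closure_mono (Set.singleton_subset_iff.2
        (Set.mem_range_self (f := τ) (IsLocalRing.closedPoint Y.functionField))) (specializes_iff_mem_closure.1 ?_)
      refine (g ⁻¹ᵁ U).ι.isOpenEmbedding.isInducing.specializes_iff.1 ?_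
      rw [← Scheme.Hom.comp_apply, Scheme.Opens.fromSpecStalkOfMem_ι, Scheme.fromSpecStalk_closedPoint]
      exact genericPoint_specializes _⟩
    refine ext_of_isDominant_of_isSeparated pX ?_ τ ?_
    · rw [Category.assoc, Category.assoc, hover, hφ, morphismRestrict_ι_assoc]
    · rw [Scheme.Opens.fromSpecStalkOfMem_ι_assoc, hgen]
      have h1 : τ ≫ (g ∣_ U) = Spec.map (funMap g hg) ≫ U.fromSpecStalkOfMem (genericPoint S) hηU := by
        rw [← cancel_mono U.ι, Category.assoc, morphismRestrict_ι, Scheme.Opens.fromSpecStalkOfMem_ι_assoc,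
          Category.assoc, Scheme.Opens.fromSpecStalkOfMem_ι, fromSpecStalk_funMap]
      rw [← Category.assoc τ, h1, Category.assoc]
  have hval : ∀ {T : Scheme.{u}} (a : T ⟶ Y) (b : T ⟶ U.toScheme), a ≫ g = b ≫ U.ι → a ≫ h = b ≫ φ := by
    intro T a b hab
    let a₀ := IsOpenImmersion.lift (g ⁻¹ᵁ U).ι a (by
      rintro _ ⟨t, rfl⟩
      rw [Scheme.Opens.range_ι]
      show g (a t) ∈ U
      rw [← Scheme.Hom.comp_apply, hab]
      exact (b t).2)
    have ha₀ : a₀ ≫ (g ⁻¹ᵁ U).ι = a := IsOpenImmersion.lift_fac _ _ _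
    have ha₀U : a₀ ≫ (g ∣_ U) = b := by
      rw [← cancel_mono U.ι, Category.assoc, morphismRestrict_ι, reassoc_of% ha₀, hab]
    calc a ≫ h = a₀ ≫ (g ⁻¹ᵁ U).ι ≫ h := by rw [reassoc_of% ha₀]
      _ = b ≫ φ := by rw [hagree, reassoc_of% ha₀U]
  haveI : IsDominant g := ⟨fun w => closure_mono (Set.singleton_subset_iff.2 (Set.mem_range_self (genericPoint Y)))
    (specializes_iff_mem_closure.1 (hg.symm ▸ genericPoint_specializes w))⟩
  have hgsurj : ∀ w : S, ∃ y : Y, g y = w := fun w => by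
    have h1 : Dense (Set.range g.base) := g.denseRange
    rw [dense_iff_closure_eq, g.isClosedMap.isClosed_range.closure_eq] at h1
    exact h1.ge (Set.mem_univ w)
  haveI : IsProper (h ≫ pX) := by rw [hover]; infer_instance
  haveI : IsProper h := IsProper.of_comp h pX
  haveI : JacobsonSpace ↥Y := LocallyOfFiniteType.jacobsonSpace (h ≫ pX)
  haveI : JacobsonSpace ↥C := LocallyOfFiniteType.jacobsonSpace q
  -- the lines over points of the curve
  have hlines : ∀ (c : Spec (CommRingCat.of k) ⟶ C) (hc : c ≫ q = 𝟙 _), ∃ ℓ : ℙ¹ ⟶ Y,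
      ℓ ≫ g = pullback.lift (𝟙 ℙ¹) (pp ≫ c) (by rw [Category.assoc, hc, Category.comp_id, Category.id_comp]) ∧
        (ℓ ≫ h) ≫ pX = pp := by
    intro c hc
    set l : ℙ¹ ⟶ S := pullback.lift (𝟙 ℙ¹) (pp ≫ c) (by rw [Category.assoc, hc, Category.comp_id, Category.id_comp]) with hl
    obtain ⟨ℓ, hℓ⟩ := exists_lift_line_seq hseq l (by
      rintro ⟨w, hw⟩
      have hlinj : Function.Injective l.base := fun a a' haa => by
        have := congrArg (pullback.fst pp q).base haa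
        rw [← Scheme.Hom.comp_apply, ← Scheme.Hom.comp_apply, hl, pullback.lift_fst] at this
        exact this
      have hsub : Subsingleton ℙ¹ := ⟨fun a a' => hlinj ((hw ⟨a, rfl⟩).trans (hw ⟨a', rfl⟩).symm)⟩
      have h0 : topologicalKrullDim ℙ¹ ≤ 0 := by
        rw [ASp.topologicalKrullDim_eq_krullDim]
        exact Order.krullDim_nonpos_iff_forall_isMax.2 fun a a' _ => (Subsingleton.elim a' a).le
      rw [hPd] at h0
      exact absurd h0 (by norm_num))
    refine ⟨ℓ, hℓ, ?_⟩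
    rw [Category.assoc, hover, reassoc_of% hℓ, pullback.lift_fst_assoc, Category.id_comp]
  -- the point over x
  obtain ⟨yi, hyi, hyic⟩ := nonempty_inter_closedPoints (show (η.base ⁻¹' {x}).Nonempty from hxη)
    (hx.preimage η.continuous).isLocallyClosed
  let ci : Spec (CommRingCat.of k) ⟶ C := pointOfClosedPoint q yi hyic
  have hci : ci ≫ q = 𝟙 _ := pointOfClosedPoint_comp _ _ _
  have hcipt : ci pt = yi := pointOfClosedPoint_apply _ _ _ _
  obtain ⟨ℓi, hℓi, hℓiX⟩ := hlines ci hci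
  let li : ℙ¹ ⟶ S := pullback.lift (𝟙 ℙ¹) (pp ≫ ci) (by rw [Category.assoc, hci, Category.comp_id, Category.id_comp])
  let p₀ : Spec (CommRingCat.of k) ⟶ ℙ¹ := ci ≫ σ
  have hp₀ : p₀ ≫ pp = 𝟙 _ := by rw [Category.assoc, hσ, hci]
  have hli : p₀ ≫ li = ci ≫ sσ := by
    refine pullback.hom_ext ?_ ?_
    · simp only [li, sσ, p₀, Category.assoc, pullback.lift_fst, Category.comp_id]
    · simp only [li, sσ, Category.assoc, pullback.lift_snd, reassoc_of% hp₀, Category.comp_id]
  haveI : IsProper (li ≫ sS) := by rw [pullback.lift_fst_assoc, Category.id_comp]; infer_instance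
  haveI : IsProper li := IsProper.of_comp li sS
  have hliclosed : ∀ v : ℙ¹, IsClosed ({v} : Set ℙ¹) → IsClosed ({li v} : Set S) := fun v hv => by
    rw [← Set.image_singleton]
    exact li.isClosedMap _ hv
  obtain ⟨y₀, hy₀g, hy₀⟩ := exists_point_of_agree g hgsurj sσ pX h η (by
    rw [hover, hη, ← Category.assoc (pullback.fst g sσ), pullback.condition, Category.assoc]
    congr 1
    rw [pullback.lift_fst_assoc, hσ]) O (O.2.dense hOne) (by
    rw [← Category.assoc]
    refine (hval ((pullback.snd g sσ ⁻¹ᵁ O).ι ≫ pullback.fst g sσ) ((pullback.snd g sσ ∣_ O) ≫ κ) ?_).trans ?_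
    · rw [Category.assoc, Category.assoc, pullback.condition, hκ, morphismRestrict_ι_assoc]
    · rw [Category.assoc, hκφ, ← hOη, morphismRestrict_ι_assoc]) yi
  have hnoline : ∀ w : S, IsClosed ({w} : Set S) → (∃ y : Y, g y = w ∧ h y = x) →
      ∀ y : Y, g y = w → h y = x := fun w hw hyw => by
    rcases RatCurveBlowLib.const_or_line hseq sS pX h hover w hw x hx hyw with h1 | ⟨cl, h1, h2, h3⟩
    · exact h1
    · exact absurd ⟨cl, h1, h3, h2⟩ hline
  have hw₀ : IsClosed ({sσ yi} : Set S) := by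
    rw [← hcipt, ← Scheme.Hom.comp_apply, ← hli, Scheme.Hom.comp_apply]
    exact hliclosed _ ((pointEquivClosedPoint pp) ⟨p₀, hp₀⟩).2
  have hℓix : (ℓi ≫ h) (p₀ pt) = x := by
    rw [Scheme.Hom.comp_apply]
    refine hnoline _ hw₀ ⟨y₀, hy₀g, hy₀.trans hyi⟩ _ ?_
    rw [← Scheme.Hom.comp_apply, hℓi, ← Scheme.Hom.comp_apply, hli, Scheme.Hom.comp_apply, hcipt]
  have hℓiconst : ∀ v : ℙ¹, (ℓi ≫ h) v = x := fun v => by
    by_contra hv
    refine hline ⟨ℓi ≫ h, hℓiX, ?_, ⟨_, hℓix⟩⟩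
    rintro ⟨z, hz⟩
    exact hv ((hz ⟨v, rfl⟩).trans ((hz ⟨p₀ pt, rfl⟩).symm.trans hℓix))
  have hfib : ∀ y : Y, IsClosed ({y} : Set Y) → (g ≫ pullback.snd pp q) y = yi → h y = x := by
    intro y hyc hy
    have hr : g y ∈ Set.range li.base := by
      rw [range_lift_point pp q ci hci]
      exact ⟨pt, by rw [hcipt, ← hy]; rfl⟩
    obtain ⟨v, hv⟩ := hr
    have hgy : IsClosed ({g y} : Set S) := by
      rw [← Set.image_singleton]
      exact g.isClosedMap _ hyc
    refine hnoline (g y) hgy ⟨ℓi v, ?_, ?_⟩ y rfl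
    · rw [← Scheme.Hom.comp_apply, hℓi, hv]
    · rw [← Scheme.Hom.comp_apply]; exact hℓiconst v
  -- rigidity
  obtain ⟨_, ⟨V : X.Opens, hV, rfl⟩, hxV, -⟩ :=
    X.isBasis_affineOpens.exists_subset_of_mem_open (Set.mem_univ x) isOpen_univ
  let q' : Y ⟶ C := g ≫ pullback.snd pp q
  let C₀ : C.Opens := ⟨(q'.base '' ((h ⁻¹ᵁ V : Y.Opens) : Set Y)ᶜ)ᶜ,
    (q'.isClosedMap _ (h ⁻¹ᵁ V).2.isClosed_compl).isOpen_compl⟩
  have hyiC : yi ∈ C₀ := by
    rintro ⟨y, hy, hyy⟩
    have hyicl : IsClosed ({yi} : Set C) := hyic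
    obtain ⟨y', ⟨hy', hy'2⟩, hy'c⟩ := nonempty_inter_closedPoints
      (show (((h ⁻¹ᵁ V : Y.Opens) : Set Y)ᶜ ∩ q'.base ⁻¹' {yi}).Nonempty from ⟨y, hy, hyy⟩)
      ((h ⁻¹ᵁ V).2.isClosed_compl.inter (hyicl.preimage q'.continuous)).isLocallyClosed
    exact hy' (show h y' ∈ V by rw [hfib y' hy'c hy'2]; exact hxV)
  let G₀ : C.Opens := O.ι ''ᵁ (β ⁻¹ᵁ OM)
  have hG₀ : O.ι o ∈ G₀ := ⟨o, hαM, rfl⟩
  obtain ⟨cc, ⟨hccG, hccC⟩, hccc⟩ := nonempty_inter_closedPoints
    (show ((G₀ : Set C) ∩ C₀).Nonempty from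
      ⟨genericPoint C, (genericPoint_specializes _).mem_open G₀.2 hG₀, (genericPoint_specializes _).mem_open C₀.2 hyiC⟩)
    (G₀.2.inter C₀.2).isLocallyClosed
  let c : Spec (CommRingCat.of k) ⟶ C := pointOfClosedPoint q cc hccc
  have hc : c ≫ q = 𝟙 _ := pointOfClosedPoint_comp _ _ _
  have hcpt : c pt = cc := pointOfClosedPoint_apply _ _ _ _
  obtain ⟨o', ho'M, ho'c⟩ := hccG
  let cO : Spec (CommRingCat.of k) ⟶ O.toScheme := IsOpenImmersion.lift O.ι c (by
    rintro _ ⟨t, rfl⟩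
    rw [Subsingleton.elim t pt, hcpt, ← ho'c]
    exact ⟨o', rfl⟩)
  have hcO : cO ≫ O.ι = c := IsOpenImmersion.lift_fac _ _ _
  have hcOo : cO pt = o' := O.ι.isOpenEmbedding.injective (by
    rw [← Scheme.Hom.comp_apply, hcO, hcpt, ← ho'c]
    rfl)
  have hcm : (cO ≫ β) ≫ m = 𝟙 _ := by rw [Category.assoc, hβ, reassoc_of% hcO, hc]
  obtain ⟨tt, tt', htt, htt', hmm, hmm', hne⟩ := hOM ((cO ≫ β) pt) ((pointEquivClosedPoint m) ⟨cO ≫ β, hcm⟩).2
    (show β (cO pt) ∈ OM by rw [hcOo]; exact ho'M)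
  obtain ⟨ℓc, hℓc, hℓcX⟩ := hlines c hc
  have hsubV : Set.range (ℓc ≫ h).base ⊆ (V : Set X) := by
    rintro _ ⟨v, rfl⟩
    by_contra hn
    refine hccC ⟨ℓc v, hn, ?_⟩
    rw [← Scheme.Hom.comp_apply, reassoc_of% hℓc, pullback.lift_snd, Scheme.Hom.comp_apply,
      Subsingleton.elim (pp v) pt, hcpt]
  have hkey : ∀ t : Spec (CommRingCat.of k) ⟶ D.toScheme, t ≫ D.ι ≫ pullback.snd pp m ≫ m = 𝟙 _ →
      (t ≫ D.ι ≫ pullback.snd pp m) pt = (cO ≫ β) pt →
      (t ≫ e) pt = (ℓc ≫ h) (genericPoint ℙ¹) := by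
    intro t ht1 ht2
    have htM : t ≫ D.ι ≫ pullback.snd pp m = cO ≫ β :=
      ext_of_apply_closedPoint_eq m (by rw [Category.assoc, Category.assoc, ht1]) hcm ht2
    let pa : Spec (CommRingCat.of k) ⟶ ℙ¹ := t ≫ D.ι ≫ pullback.fst pp m
    have hpa : pa ≫ pp = 𝟙 _ := by
      simp only [pa, Category.assoc, pullback.condition]
      exact ht1
    obtain ⟨a', ha', ha'φ⟩ := hmapU (pullback.lift pa c (by rw [hpa, hc])) t cO
      (by rw [pullback.lift_snd, hcO]) (by rw [pullback.lift_fst]) htM.symm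
    have h1 : (pa ≫ ℓc) ≫ g = a' ≫ U.ι := by
      rw [ha', Category.assoc, hℓc]
      refine pullback.hom_ext ?_ ?_
      · rw [Category.assoc, pullback.lift_fst, Category.comp_id, pullback.lift_fst]
      · rw [Category.assoc, pullback.lift_snd, pullback.lift_snd, reassoc_of% hpa]
    rw [← ha'φ, ← hval _ _ h1, Category.assoc, Scheme.Hom.comp_apply]
    exact subsingleton_range pp pX (ℓc ≫ h) hℓcX hV hsubV _
  refine hne (ext_of_apply_closedPoint_eq pX ?_ ?_ ((hkey tt htt hmm).trans (hkey tt' htt' hmm').symm))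
  · rw [Category.assoc, he, pullback.condition]; exact htt
  · rw [Category.assoc, he, pullback.condition]; exact htt'

end Groth.Agent.UniruledCurveLib
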