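import Groth.Agent.RatCurveBlowLib.Bend
import Groth.Agent.CurveRigid.Curve
import Groth.Agent.CyclicCoverLib.Curve
import Groth.Agent.EtAlgEasy.FibLocusFin
import Groth.Agent.RelAssLib.Generic

/-!
# Helpers: rational curves through every point of a uniruled variety
-/

set_option autoImplicit false
set_option backward.isDefEq.respectTransparency false
set_option linter.style.haveILetI false
set_option maxHeartbeats 1000000

universe u

open CategoryTheory CategoryTheory.Limits AlgebraicGeometry TopologicalSpace
open Groth.Agent.TwistShriek Groth.Agent.TwistShriek.PointBlow Groth.Agent.SurfPtBlow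

noncomputable section

namespace Groth.Agent.UniruledCurveLib

variable {k : Type u} [Field k] [IsAlgClosed k]

local notation "ℙ¹" => CohB1.ProjSpace 1 k

theorem regular_of_smooth' {P : Scheme.{u}} (p : P ⟶ Spec (CommRingCat.of k)) [Smooth p] (v : P) :
    IsRegularLocalRing (P.presheaf.stalk v) := by
  haveI : Subsingleton ↥(Spec (CommRingCat.of k)) := inferInstanceAs (Subsingleton (PrimeSpectrum k))
  refine BlowChartLib.regular_stalk_of_smooth p v ?_
  rw [Subsingleton.elim (p v) (genericPoint (Spec (CommRingCat.of k)))]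
  exact inferInstanceAs (IsRegularLocalRing (Spec (CommRingCat.of k)).functionField)

/-- A morphism on an open piece of a regular curve to a proper scheme extends. -/
theorem exists_extend_curve {P Y : Scheme.{u}} (p : P ⟶ Spec (CommRingCat.of k)) [IsIntegral P] [IsProper p] [Smooth p]
    (hd : topologicalKrullDim P ≤ 1)
    (sY : Y ⟶ Spec (CommRingCat.of k)) [IsProper sY]
    (U : P.Opens) (hU : (U : Set P).Nonempty)
    (φ : U.toScheme ⟶ Y) (hφ : φ ≫ sY = U.ι ≫ p) :
    ∃ c : P ⟶ Y, c ≫ sY = p ∧ U.ι ≫ c = φ := by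
  haveI : IsNoetherian P :=
    { toIsLocallyNoetherian := LocallyOfFiniteType.isLocallyNoetherian p
      toCompactSpace := QuasiCompact.compactSpace_of_compactSpace p }
  have hη : genericPoint P ∈ U := (genericPoint_specializes hU.some).mem_open U.2 hU.some_mem
  let zK : Spec P.functionField ⟶ Y := U.fromSpecStalkOfMem (genericPoint P) hη ≫ φ
  obtain ⟨I, hI, hext⟩ := SurfPtBlow.exists_ideal_extend p sY zK (by
    rw [Category.assoc, hφ, Scheme.Opens.fromSpecStalkOfMem_ι_assoc])
  obtain ⟨c, hc, hgen⟩ := hext (𝟙 P) rfl (by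
    rw [Scheme.IdealSheafData.comap_id]
    exact CastLib.CurveRes.isEffCartier_of_dimLE_one (regular_of_smooth' p) hd I hI)
  rw [Category.id_comp] at hc
  refine ⟨c, hc, ?_⟩
  have hfun : SurfPtBlow.funMap (𝟙 P) rfl = 𝟙 _ := by
    simp [SurfPtBlow.funMap]
  rw [hfun, Spec.map_id, Category.id_comp] at hgen
  let τ : Spec P.functionField ⟶ (U : Scheme.{u}) := U.fromSpecStalkOfMem (genericPoint P) hη
  haveI : IsDominant τ := ⟨fun z => by
    refine closure_mono (Set.singleton_subset_iff.2
      (Set.mem_range_self (f := τ) (IsLocalRing.closedPoint P.functionField))) (specializes_iff_mem_closure.1 ?_)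
    refine U.ι.isOpenEmbedding.isInducing.specializes_iff.1 ?_
    rw [← Scheme.Hom.comp_apply, Scheme.Opens.fromSpecStalkOfMem_ι, Scheme.fromSpecStalk_closedPoint]
    exact genericPoint_specializes _⟩
  refine ext_of_isDominant_of_isSeparated sY ?_ τ ?_
  · rw [Category.assoc, hc, hφ]
  · rw [Scheme.Opens.fromSpecStalkOfMem_ι_assoc, hgen]

/-- A nonconstant line lifts along a sequence of point blow-ups. -/
theorem exists_lift_line_seq {Y W : Scheme.{u}} {g : Y ⟶ W} (hg : PtSeq g) (c : ℙ¹ ⟶ W)
    (hc : ¬ ∃ w : W, Set.range c.base ⊆ {w}) : ∃ c' : ℙ¹ ⟶ Y, c' ≫ g = c := by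
  induction hg with
  | refl W => exact ⟨c, Category.comp_id c⟩
  | @step Y Z W b r z hz hreg hd hb hr ih =>
    obtain ⟨c₁, hc₁⟩ := ih c hc
    obtain ⟨c₂, hc₂⟩ := RatCurveBlowLib.exists_lift_line k hb c₁ fun h => hc ⟨r z, by
      rintro _ ⟨v, rfl⟩
      rw [← hc₁, Scheme.Hom.comp_apply, show c₁ v = z from h ⟨v, rfl⟩]
      rfl⟩
    exact ⟨c₂, by rw [reassoc_of% hc₂, hc₁]⟩

/-- The constructible image of a dominant morphism of finite type contains a nonempty open. -/
theorem exists_open_subset_range {A B : Scheme.{u}} (f : A ⟶ B) [IsNoetherian B] [IsIntegral B]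
    [LocallyOfFiniteType f] [QuasiCompact f] (h : genericPoint B ∈ Set.range f.base) :
    ∃ V : B.Opens, (V : Set B).Nonempty ∧ (V : Set B) ⊆ Set.range f.base := by
  haveI : LocallyOfFinitePresentation f :=
    LocallyOfFinitePresentation.iff_locallyOfFiniteType.mpr inferInstance
  refine EtAlgEasy.FibLocus.exists_open_subset ?_ h
  have h1 := f.isLocallyConstructible_image (s := Set.univ) Topology.IsConstructible.univ.isLocallyConstructible
  rwa [Set.image_univ] at h1

/-- The range of a morphism from an integral proper scheme into an affine open of a proper scheme is one point. -/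
theorem subsingleton_range {P X : Scheme.{u}} [IsIntegral P] (pP : P ⟶ Spec (CommRingCat.of k)) [IsProper pP]
    (pX : X ⟶ Spec (CommRingCat.of k)) [IsProper pX] (f : P ⟶ X) (hf : f ≫ pX = pP)
    {G : X.Opens} (hG : IsAffineOpen G) (hsub : Set.range f.base ⊆ (G : Set X)) (v : P) :
    f v = f (genericPoint P) := by
  haveI : IsProper (f ≫ pX) := by rw [hf]; infer_instance
  haveI : IsProper f := IsProper.of_comp f pX
  have hc : IsClosed ({f (genericPoint P)} : Set X) :=
    LeffEtLib.isClosed_singleton_of_subset pX hG f.isClosedMap.isClosed_range hsub ⟨_, rfl⟩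
  exact hc.closure_eq.le (specializes_iff_mem_closure.1 ((genericPoint_specializes v).map f.continuous))

end Groth.Agent.UniruledCurveLib
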